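import Mathlib

/-!
# Simple groups of order 10200960: the facts passed from the character table to the local endgame
-/

set_option autoImplicit false

namespace CfsgLib.Char.MTwentyThreeOrder

universe u

/-- What the characters give for a simple group of order 10200960. -/
structure Facts (G : Type u) [Group G] [Finite G] : Prop where
  card_eq : Nat.card G = 10200960
  invol_conj : ∀ t s : G, orderOf t = 2 → orderOf s = 2 → IsConj t s
  cent_invol : ∀ t : G, orderOf t = 2 → Nat.card (Subgroup.centralizer ({t} : Set G)) = 2688
  invol_in_cent : ∀ t : G, orderOf t = 2 →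
    Nat.card {s : G // orderOf s = 2 ∧ s * t = t * s} = 99
  cent_seven : ∀ a : G, orderOf a = 7 → Nat.card (Subgroup.centralizer ({a} : Set G)) = 14
  norm_seven : ∀ P : Subgroup G, Nat.card P = 7 → Nat.card (Subgroup.normalizer (P : Set G)) = 42

end CfsgLib.Char.MTwentyThreeOrder
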